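import Cfsg.Agent.Spor.PX8
import Cfsg.Agent.Spor.J24.Bnd
import Cfsg.Agent.Spor.J4M.C0

set_option autoImplicit false
set_option maxRecDepth 100000000
set_option Elab.async false

namespace Cfsg.Agent.Spor.J4M

theorem hp : ((A.p : ℕ) : ZMod 2) = 0 := by decide
instance instCharP : CharP (ZMod 2) A.p := ZMod.charP 2

noncomputable def Ω : MRep A (ZMod 2) M24 :=
  actRep (ZMod 2) M24 ((finCongr (show A.d = 24 from rfl)).trans golE) sq hp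
noncomputable def F : ℕ → M24 := fun j => if j = 0 then Gol.pm 354747544938121204314265900219379090 else Gol.pm 975708178369325567586043347344106764
theorem gF : Ω.Gens TT (atm 2 F) := MRep.Gens.of TTok fun j hj => by
  interval_cases j
  · exact gol_ρ cx
  · exact gol_ρ cy
theorem presF : Pres 2 0 J24.RL F := ⟨fun _ h => absurd h (Nat.not_lt_zero _), gF.all_one (show AllP (fun w => PA.isW A TT w A.one = true) [[0, 0], [2, 2, 2], [0, 2, 0, 2, 0, 2, 0, 2, 0, 2, 0, 2, 0, 2, 0, 2, 0, 2, 0, 2, 0, 2, 0, 2, 0, 2, 0, 2, 0, 2, 0, 2, 0, 2, 0, 2, 0, 2, 0, 2, 0, 2, 0, 2, 0, 2], [1, 3, 0, 2, 1, 3, 0, 2, 1, 3, 0, 2, 1, 3, 0, 2, 1, 3, 0, 2, 1, 3, 0, 2, 1, 3, 0, 2, 1, 3, 0, 2, 1, 3, 0, 2, 1, 3, 0, 2, 1, 3, 0, 2, 1, 3, 0, 2], [1, 3, 1, 3, 0, 2, 0, 2, 1, 3, 1, 3, 0, 2, 0, 2, 1, 3, 1, 3, 0, 2, 0, 2, 1, 3, 1, 3, 0, 2, 0, 2, 1, 3, 1, 3, 0, 2, 0, 2], [0, 2, 0, 2, 0, 3,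 0, 2, 0, 3, 0, 2, 0, 3, 0, 2, 0, 2, 0, 3, 0, 2, 0, 3, 0, 2, 0, 3, 0, 2, 0, 2, 0, 3, 0, 2, 0, 3, 0, 2, 0, 3, 0, 2, 0, 2, 0, 3, 0, 2, 0, 3, 0, 2, 0, 3], [0, 2, 0, 2, 0, 3, 0, 2, 0, 2, 0, 3, 0, 2, 0, 2, 0, 3, 0, 2, 0, 3, 0, 3, 0, 2, 0, 3, 0, 3, 0, 2, 0, 3, 0, 3]] from AllP.cons r4 (AllP.cons r5 (AllP.cons r6 (AllP.cons r7 (AllP.cons r8 (AllP.cons r9 (AllP.cons r10 (AllP.nil))))))))⟩
theorem topF : gsub 2 F = ⊤ := by
  rw [eq_top_iff, ← Gol.M24_gen]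
  refine Gol.gsub_le fun c hc => ?_
  simp only [List.mem_cons, List.not_mem_nil, or_false] at hc
  rcases hc with rfl | rfl | rfl
  · rw [← MRep.el_eq (X := Ω) (gol_ρ c0), (gF.isW w1).2]; exact ev_atm_mem 2 F _
  · rw [← MRep.el_eq (X := Ω) (gol_ρ c1), (gF.isW w2).2]; exact ev_atm_mem 2 F _
  · rw [← MRep.el_eq (X := Ω) (gol_ρ c2), (gF.isW w3).2]; exact ev_atm_mem 2 F _

noncomputable abbrev P : Subgroup M24 := gsub 2 F
noncomputable abbrev p : ℕ → P := lift P F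
noncomputable def eqv : P ≃* M24 := (MulEquiv.subgroupCongr topF).trans Subgroup.topEquiv
theorem cardP : Nat.card P = 244823040 := (Nat.card_congr eqv.toEquiv).trans Gol.card_M24
theorem lbP : 244823040 ∣ Nat.card P := cardP.symm.dvd
theorem simpleP : IsSimpleGroup P := haveI := Gol.simple_M24; eqv.isSimpleGroup
noncomputable def X : MRep A (ZMod 2) P := Ω.comp P.subtype P.subtype_injective
theorem gens : X.Gens TT (atm 2 p) := gF.lift fun _ hj => mem_gsub F hj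
theorem presP : Pres 2 0 J24.RL p := presF.lift

end Cfsg.Agent.Spor.J4M
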