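import Cfsg.Agent.Spor.PX0
import Cfsg.Agent.Gol.Perm

set_option autoImplicit false
set_option maxRecDepth 100000000
set_option Elab.async false
noncomputable section

namespace Cfsg.Agent.Spor.J4M

def A_cm : Nat := nat_lit 0x1000001000001000001000001000001000001000001000001000001000001000001000001000001000001000001000001000001000001000001000001000001000001000001
def A_rm : Nat := nat_lit 0xffffff
def A_em : Nat := nat_lit 0x0
def A_qm : Nat := nat_lit 0x0
def A_one : Nat := nat_lit 0x800000400000200000100000080000040000020000010000008000004000002000001000000800000400000200000100000080000040000020000010000008000004000002000001
def A : PA := ⟨nat_lit 2, nat_lit 1, nat_lit 24, nat_lit 24, nat_lit 24, nat_lit 0, nat_lit 0, A_cm, A_rm, A_em, A_qm, A_one⟩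

def TT : List Nat := [(nat_lit 0x100020000000200000040008000000001400000000008080000000010000020000002000004000080200000800000000400100000002000004000010000000800001000040000), (nat_lit 0x100020000000200000040008000000001400000000008080000000010000020000002000004000080200000800000000400100000002000004000010000000800001000040000), (nat_lit 0x800000020000200000000200000100000008008000010000400000000400002000000001000800000040000004000002000080004000040000001000000020100000080000000010), (nat_lit 0x800000008000200000000004000002000020400000010000020000000040002000000010000800004000100000080000000080000400000008000001040000000200000100001000)]

end Cfsg.Agent.Spor.J4M
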